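import Mathlib
import Groth.Agent.HKLib.Dim
import Groth.Agent.HKLib.Length
import Groth.Agent.CMFlatLib.Local
import Groth.Agent.S10881

/-!
Kunz: a Noetherian ring of prime characteristic is regular iff its Frobenius is flat.
-/

set_option autoImplicit false

universe u

namespace Groth.Agent.KunzLib

open IsLocalRing

variable {R : Type u} [CommRing R]

/-- All relations between the `f i` have coefficients in the ideal they generate. -/
def Indep {n : ℕ} (f : Fin n → R) : Prop :=
  ∀ a : Fin n → R, ∑ i, a i * f i = 0 → ∀ i, a i ∈ Ideal.span (Set.range f)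

theorem span_range_update {n : ℕ} (f : Fin n → R) (i : Fin n) (z : R) :
    Ideal.span (Set.range (Function.update f i z)) =
      Ideal.span (f '' {i}ᶜ) ⊔ Ideal.span {z} := by
  rw [← Ideal.span_union]
  congr 1
  ext y
  constructor
  · rintro ⟨j, rfl⟩
    rcases eq_or_ne j i with rfl | hj
    · exact Or.inr (by simp)
    · exact Or.inl ⟨j, hj, by simp [hj]⟩
  · rintro (⟨j, hj, rfl⟩ | rfl)
    · exact ⟨j, by simp [show j ≠ i from hj]⟩
    · exact ⟨i, by simp⟩

theorem mem_span_split {n : ℕ} (f : Fin n → R) (i : Fin n) (z : R) {a : R}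
    (ha : a ∈ Ideal.span (Set.range (Function.update f i z))) :
    ∃ c : Fin n → R, a = c i * z + ∑ j ∈ ({i}ᶜ : Finset (Fin n)), c j * f j := by
  obtain ⟨c, rfl⟩ := Ideal.mem_span_range_iff_exists_fun.1 ha
  refine ⟨c, ?_⟩
  rw [Fintype.sum_eq_add_sum_compl i]
  congr 1
  · simp
  · exact Finset.sum_congr rfl fun j hj => by simp [show j ≠ i by simpa using hj]

theorem sum_update {n : ℕ} (f a : Fin n → R) (i : Fin n) (z : R) :
    ∑ j, a j * Function.update f i z j = a i * z + ∑ j ∈ ({i}ᶜ : Finset (Fin n)), a j * f j := by
  rw [Fintype.sum_eq_add_sum_compl i]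
  congr 1
  · simp
  · exact Finset.sum_congr rfl fun j hj => by simp [show j ≠ i by simpa using hj]

/-- Factors of an independent sequence are independent. -/
theorem Indep.factor {n : ℕ} {f : Fin n → R} {i : Fin n} {g h : R}
    (hf : Indep (Function.update f i (g * h))) : Indep (Function.update f i g) := by
  intro a ha
  rw [sum_update] at ha
  have h1 : ∑ j, (Function.update (fun j => h * a j) i (a i)) j * Function.update f i (g * h) j = 0 := by
    rw [sum_update, Function.update_self]
    calc _ = h * (a i * g + ∑ j ∈ ({i}ᶜ : Finset (Fin n)), a j * f j) := by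
          rw [mul_add, Finset.mul_sum]
          congr 1
          · ring
          · exact Finset.sum_congr rfl fun j hj => by
              rw [Function.update_of_ne (by simpa using hj)]; ring
      _ = 0 := by rw [ha, mul_zero]
  have hi := hf _ h1 i
  rw [Function.update_self] at hi
  obtain ⟨c, hc⟩ := mem_span_split f i (g * h) hi
  have h2 : ∑ j, (Function.update (fun j => a j + c j * g) i (c i * g)) j * Function.update f i (g * h) j = 0 := by
    rw [sum_update, Function.update_self]
    calc _ = a i * g + ∑ j ∈ ({i}ᶜ : Finset (Fin n)), a j * f j := by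
          rw [hc, add_mul, Finset.sum_mul]
          rw [add_assoc (c i * (g * h) * g), ← Finset.sum_add_distrib]
          congr 1
          · ring
          · exact Finset.sum_congr rfl fun j hj => by
              rw [Function.update_of_ne (by simpa using hj)]; ring
      _ = 0 := ha
  have hle : Ideal.span (Set.range (Function.update f i (g * h))) ≤ Ideal.span (Set.range (Function.update f i g)) := by
    rw [span_range_update, span_range_update]
    exact sup_le_sup_left (Ideal.span_singleton_le_span_singleton.2 (Dvd.intro h rfl)) _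
  have hg : ∀ r : R, r * g ∈ Ideal.span (Set.range (Function.update f i g)) := fun r =>
    Ideal.mul_mem_left _ _ (Ideal.subset_span ⟨i, by simp⟩)
  intro j
  rcases eq_or_ne j i with rfl | hj
  · exact hle hi
  · have := hle (hf _ h2 j)
    rw [Function.update_of_ne hj] at this
    have h3 := Ideal.sub_mem _ this (hg (c j))
    simpa using h3

/-- The key injectivity. -/
theorem Indep.mem {n : ℕ} {f : Fin n → R} {i : Fin n} {g h : R} (hf : Indep (Function.update f i (g * h)))
    {a : R} (ha : g * a ∈ Ideal.span (Set.range (Function.update f i (g * h)))) :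
    a ∈ Ideal.span (Set.range (Function.update f i h)) := by
  obtain ⟨c, hc⟩ := mem_span_split f i (g * h) ha
  have h1 : ∑ j, (Function.update (fun j => -(h * c j)) i (a - c i * h)) j * Function.update f i (g * h) j = 0 := by
    rw [sum_update, Function.update_self]
    calc _ = h * (g * a) - h * (c i * (g * h) + ∑ j ∈ ({i}ᶜ : Finset (Fin n)), c j * f j) := by
          rw [mul_add, Finset.mul_sum, sub_add_eq_sub_sub, sub_eq_add_neg _ (Finset.sum _ _),
            ← Finset.sum_neg_distrib]
          congr 1
          · ring
          · exact Finset.sum_congr rfl fun j hj => by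
              rw [Function.update_of_ne (by simpa using hj)]; ring
      _ = 0 := by rw [← hc, sub_self]
  have := hf _ h1 i
  rw [Function.update_self] at this
  have hle : Ideal.span (Set.range (Function.update f i (g * h))) ≤ Ideal.span (Set.range (Function.update f i h)) := by
    rw [span_range_update, span_range_update]
    exact sup_le_sup_left (Ideal.span_singleton_le_span_singleton.2 (Dvd.intro_left g rfl)) _
  have h3 := Ideal.add_mem _ (hle this)
    (Ideal.mul_mem_left _ (c i) (Ideal.subset_span (⟨i, by simp⟩ : h ∈ Set.range (Function.update f i h))))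
  simpa using h3

theorem Indep.length_add {n : ℕ} {f : Fin n → R} {i : Fin n} {g h : R}
    (hf : Indep (Function.update f i (g * h))) :
    Module.length R (R ⧸ Ideal.span (Set.range (Function.update f i h))) +
        Module.length R (R ⧸ Ideal.span (Set.range (Function.update f i g))) =
      Module.length R (R ⧸ Ideal.span (Set.range (Function.update f i (g * h)))) := by
  set I := Ideal.span (Set.range (Function.update f i (g * h))) with hI
  set I₁ := Ideal.span (Set.range (Function.update f i h)) with hI1
  set I₂ := Ideal.span (Set.range (Function.update f i g)) with hI2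
  have h12 : I ≤ I₂ := by
    rw [hI, hI2, span_range_update, span_range_update]
    exact sup_le_sup_left (Ideal.span_singleton_le_span_singleton.2 (Dvd.intro h rfl)) _
  have h11 : I₁ ≤ Submodule.comap (g • LinearMap.id : R →ₗ[R] R) I := by
    intro a ha
    show g • a ∈ I
    obtain ⟨c, rfl⟩ := mem_span_split f i h ha
    rw [smul_eq_mul, mul_add, Finset.mul_sum, hI, span_range_update]
    refine add_mem (Submodule.mem_sup_right (Ideal.mem_span_singleton'.2 ⟨c i, by ring⟩))
      (Submodule.mem_sup_left (Ideal.sum_mem _ fun j hj => ?_))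
    exact Ideal.mul_mem_left _ _ (Ideal.mul_mem_left _ _ (Ideal.subset_span ⟨j, by simpa using hj, rfl⟩))
  let μ : (R ⧸ I₁) →ₗ[R] R ⧸ I := Submodule.mapQ _ _ (g • LinearMap.id) h11
  let π : (R ⧸ I) →ₗ[R] R ⧸ I₂ := Submodule.factor h12
  refine (Module.length_eq_add_of_exact μ π ?_ (Submodule.factor_surjective _) ?_).symm
  · rw [injective_iff_map_eq_zero]
    intro z hz
    obtain ⟨a, rfl⟩ := Submodule.Quotient.mk_surjective _ z
    have : g • a ∈ I := (Submodule.Quotient.mk_eq_zero I).1 hz
    exact (Submodule.Quotient.mk_eq_zero I₁).2 (hf.mem this)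
  · intro z
    obtain ⟨a, rfl⟩ := Submodule.Quotient.mk_surjective _ z
    constructor
    · intro hz
      have ha : a ∈ I₂ := (Submodule.Quotient.mk_eq_zero I₂).1 hz
      obtain ⟨c, rfl⟩ := mem_span_split f i g ha
      refine ⟨Submodule.Quotient.mk (c i), ?_⟩
      show Submodule.Quotient.mk (g • c i) = Submodule.Quotient.mk _
      rw [Submodule.Quotient.eq, smul_eq_mul, mul_comm g, sub_add_cancel_left, hI, span_range_update]
      exact neg_mem (Submodule.mem_sup_left (Ideal.sum_mem _ fun j hj =>
        Ideal.mul_mem_left _ _ (Ideal.subset_span ⟨j, by simpa using hj, rfl⟩)))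
    · rintro ⟨w, hw⟩
      obtain ⟨b, rfl⟩ := Submodule.Quotient.mk_surjective _ w
      rw [← hw]
      exact (Submodule.Quotient.mk_eq_zero I₂).2 (Ideal.mul_mem_right _ _ (Ideal.subset_span ⟨i, by simp⟩))

/-- Lech's inequality for independent powers. -/
theorem prod_le_length [IsLocalRing R] {n : ℕ} (x : Fin n → R) (hx : ∀ i, x i ∈ maximalIdeal R) :
    ∀ (k : ℕ) (e : Fin n → ℕ), (∀ i, 1 ≤ e i) → ∑ i, e i = k → Indep (fun i => x i ^ e i) →
      ((∏ i, e i : ℕ) : ℕ∞) ≤ Module.length R (R ⧸ Ideal.span (Set.range fun i => x i ^ e i)) := by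
  intro k
  induction k using Nat.strong_induction_on with
  | _ k ih =>
    intro e he hk hind
    by_cases h : ∀ i, e i = 1
    · rw [show (fun i => x i ^ e i) = x from funext fun i => by rw [h i, pow_one]]
      simp only [h, Finset.prod_const_one, Nat.cast_one]
      haveI : Nontrivial (R ⧸ Ideal.span (Set.range x)) := Ideal.Quotient.nontrivial_iff.2 fun ht =>
        (maximalIdeal.isMaximal R).ne_top (top_le_iff.1 (ht ▸ Ideal.span_le.2 (by rintro _ ⟨i, rfl⟩; exact hx i)))
      exact ENat.one_le_iff_ne_zero.2 (fun h0 => not_subsingleton (R ⧸ Ideal.span (Set.range x))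
        (Module.length_eq_zero_iff.1 h0))
    · push_neg at h
      obtain ⟨i, hi⟩ := h
      have h2 : 2 ≤ e i := by have := he i; omega
      have hupd : ∀ m : ℕ, (fun j => x j ^ Function.update e i m j) = Function.update (fun j => x j ^ e j) i (x i ^ m) := by
        intro m
        funext j
        rcases eq_or_ne j i with rfl | hj <;> simp_all
      have hfg : Indep (Function.update (fun j => x j ^ e j) i (x i * x i ^ (e i - 1))) := by
        rw [← pow_succ', Nat.sub_add_cancel (he i), Function.update_eq_self]
        exact hind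
      have hfh : Indep (Function.update (fun j => x j ^ e j) i (x i ^ (e i - 1) * x i)) := by
        rwa [mul_comm] at hfg
      have e1 := hfg.length_add
      have hA := ih (∑ j, Function.update e i (e i - 1) j) (by
          rw [← hk]
          exact Finset.sum_lt_sum (fun j _ => by rcases eq_or_ne j i with rfl | hj <;> simp_all)
            ⟨i, Finset.mem_univ _, by rw [Function.update_self]; omega⟩)
        (Function.update e i (e i - 1)) (fun j => by
          rcases eq_or_ne j i with rfl | hj
          · rw [Function.update_self]; omega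
          · rw [Function.update_of_ne hj]; exact he j) rfl (by rw [hupd]; exact hfh.factor)
      have hB := ih (∑ j, Function.update e i 1 j) (by
          rw [← hk]
          exact Finset.sum_lt_sum (fun j _ => by rcases eq_or_ne j i with rfl | hj <;> simp_all)
            ⟨i, Finset.mem_univ _, by rw [Function.update_self]; omega⟩)
        (Function.update e i 1) (fun j => by
          rcases eq_or_ne j i with rfl | hj
          · simp
          · rw [Function.update_of_ne hj]; exact he j) rfl (by rw [hupd, pow_one]; exact hfg.factor)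
      rw [hupd] at hA hB
      rw [pow_one] at hB
      rw [← pow_succ', Nat.sub_add_cancel (he i), Function.update_eq_self] at e1
      rw [← e1]
      refine le_trans ?_ (add_le_add hA hB)
      rw [← Nat.cast_add, Nat.cast_le, Finset.prod_update_of_mem (Finset.mem_univ i),
        Finset.prod_update_of_mem (Finset.mem_univ i), ← add_mul, Nat.sub_add_cancel (he i)]
      exact (Finset.prod_eq_mul_prod_sdiff_singleton_of_mem (Finset.mem_univ i) e).le

/-- A copy of `R`, seen as an algebra over `R` through Frobenius. -/
def Fr (R : Type u) (_p : ℕ) (_e : ℕ) : Type u := R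

instance (p e : ℕ) : CommRing (Fr R p e) := inferInstanceAs (CommRing R)

instance (p e : ℕ) [IsNoetherianRing R] : IsNoetherianRing (Fr R p e) := inferInstanceAs (IsNoetherianRing R)

instance (p e : ℕ) [IsLocalRing R] : IsLocalRing (Fr R p e) := inferInstanceAs (IsLocalRing R)

noncomputable instance (p e : ℕ) [ExpChar R p] : Algebra R (Fr R p e) :=
  RingHom.toAlgebra (iterateFrobenius R p e : R →+* Fr R p e)

theorem flat_iterate (p : ℕ) [ExpChar R p] (h : (frobenius R p).Flat) :
    ∀ e : ℕ, (iterateFrobenius R p e).Flat := by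
  intro e
  induction e with
  | zero =>
    rw [iterateFrobenius_zero]
    exact RingHom.Flat.id R
  | succ e ih =>
    rw [show iterateFrobenius R p (e + 1) = (frobenius R p).comp (iterateFrobenius R p e) from
      RingHom.ext fun x => by simp [iterateFrobenius_def, frobenius_def, pow_succ, pow_mul]]
    exact RingHom.Flat.comp ih h

theorem indep_of_flat [IsLocalRing R] [IsNoetherianRing R] (p : ℕ) [ExpChar R p] (h : (frobenius R p).Flat)
    {n : ℕ} (x : Fin n → R) (hx : Ideal.span (Set.range x) = maximalIdeal R)
    (hn : n = (maximalIdeal R).spanFinrank) (e : ℕ) : Indep (fun i => x i ^ p ^ e) := by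
  intro a ha i
  haveI : Module.Flat R (Fr R p e) := flat_iterate p h e
  have hrel : ∑ i, x i • (show Fr R p e from a i) = 0 := by
    simp only [Algebra.smul_def]
    show ∑ i, iterateFrobenius R p e (x i) * a i = (0 : R)
    rw [← ha]
    exact Finset.sum_congr rfl fun i _ => by rw [iterateFrobenius_def, mul_comm]
  obtain ⟨κ, c, y, hy, hc⟩ := Module.Flat.isTrivialRelation_of_sum_smul_eq_zero (R := R) (M := Fr R p e) (f := x) (x := fun i => (show Fr R p e from a i)) hrel
  have hm : ∀ (j : Fin n) k, c j k ∈ maximalIdeal R := by
    intro j k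
    by_contra hu
    rw [mem_maximalIdeal, mem_nonunits_iff, not_not] at hu
    obtain ⟨w, hw⟩ := hu.exists_right_inv
    have hxj : x j ∈ Ideal.span (x '' {j}ᶜ) := by
      have h0 := hc k
      rw [Fintype.sum_eq_add_sum_compl j] at h0
      have : x j = w * -(∑ i ∈ ({j}ᶜ : Finset (Fin n)), x i * c i k) := by
        rw [← eq_neg_of_add_eq_zero_left h0]
        linear_combination -(x j) * hw
      rw [this]
      exact Ideal.mul_mem_left _ _ (neg_mem (Ideal.sum_mem _ fun i hi =>
        Ideal.mul_mem_right _ _ (Ideal.subset_span ⟨i, by simpa using hi, rfl⟩)))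
    have hspan : Ideal.span (x '' {j}ᶜ) = maximalIdeal R := by
      refine le_antisymm (hx ▸ Ideal.span_mono (Set.image_subset_range _ _)) (hx ▸ Ideal.span_le.2 ?_)
      rintro _ ⟨i, rfl⟩
      rcases eq_or_ne i j with rfl | hi
      · exact hxj
      · exact Ideal.subset_span ⟨i, hi, rfl⟩
    have h1 : (maximalIdeal R).spanFinrank ≤ (x '' {j}ᶜ).ncard := by
      rw [← hspan]
      exact Submodule.spanFinrank_span_le_ncard_of_finite (Set.toFinite _)
    have h2 : (x '' {j}ᶜ).ncard ≤ n - 1 := by
      refine (Set.ncard_image_le (Set.toFinite _)).trans ?_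
      rw [Set.ncard_compl]; simp
    have := j.pos
    omega
  have ha' : (a i : R) = ∑ k, iterateFrobenius R p e (c i k) * (show R from y k) :=
    (hy i).trans (Finset.sum_congr rfl fun k _ => rfl)
  rw [ha']
  refine Ideal.sum_mem _ fun k _ => Ideal.mul_mem_right _ _ ?_
  have := Ideal.mem_map_of_mem (iterateFrobenius R p e) (hx.symm ▸ hm i k : c i k ∈ Ideal.span (Set.range x))
  rw [Ideal.map_span, ← Set.range_comp] at this
  simpa [Function.comp_def, iterateFrobenius_def] using this

theorem isRegularLocalRing_of_flat [IsLocalRing R] [IsNoetherianRing R] (p : ℕ) [Fact p.Prime] [CharP R p]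
    (h : (frobenius R p).Flat) : IsRegularLocalRing R := by
  haveI : ExpChar R p := ExpChar.prime Fact.out
  obtain ⟨d, hd⟩ := RegLocal.exists_nat_ringKrullDim R
  set n := (maximalIdeal R).spanFinrank with hn
  obtain ⟨x, hx⟩ : ∃ x : Fin n → R, Ideal.span (Set.range x) = maximalIdeal R := RegLocal.exists_generators R
  refine IsRegularLocalRing.of_spanFinrank_maximalIdeal_le (R := R) ?_
  rw [hd, ← hn]
  suffices n ≤ d by exact_mod_cast this
  obtain ⟨C, hC⟩ := HKLib.exists_lenQ_le (A := R) (M := R) (⊥ : Ideal R) (fun r hr v => by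
    rw [Submodule.mem_bot] at hr; simp [hr]) d (le_of_eq
      ((ringKrullDim_eq_of_ringEquiv (RingEquiv.quotientBot R)).trans hd)) (maximalIdeal R) Ideal.le_radical
  by_contra hlt
  push_neg at hlt
  obtain ⟨e, he⟩ : ∃ e, C < p ^ e := ⟨C, Nat.lt_pow_self (Nat.Prime.one_lt Fact.out)⟩
  set J := Ideal.span (Set.range fun i => x i ^ p ^ e) with hJdef
  have hq : 1 ≤ p ^ e := Nat.one_le_pow _ _ (Nat.Prime.pos Fact.out)
  have hmap : (maximalIdeal R).map (iterateFrobenius R p e) = J := by
    rw [← hx, Ideal.map_span, ← Set.range_comp, hJdef]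
    simp [Function.comp_def, iterateFrobenius_def]
  have hmem : ∀ y ∈ maximalIdeal R, y ^ p ^ e ∈ J := fun y hy => by
    rw [← hmap, ← iterateFrobenius_def]
    exact Ideal.mem_map_of_mem _ hy
  have hJ : HKLib.IsPrimaryTop (A := R) J := fun y hy => ⟨p ^ e, hmem y hy⟩
  have h1 := hC (p ^ e) J hJ hmem
  have h2 := prod_le_length x (fun i => hx ▸ Ideal.subset_span ⟨i, rfl⟩) _ (fun _ => p ^ e) (fun _ => hq) rfl
    (indep_of_flat p h x hx hn e)
  have h3 : (Module.length R (R ⧸ J)).toNat = HKLib.lenQ J R := by
    unfold HKLib.lenQ
    rw [Ideal.smul_top_eq_map, Algebra.algebraMap_self, Ideal.map_id]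
    rfl
  have h4 : (p ^ e) ^ n ≤ HKLib.lenQ J R := by
    rw [← ENat.coe_le_coe, HKLib.coe_lenQ hJ]
    refine le_trans (le_of_eq ?_) (h2.trans (le_of_eq ?_))
    · simp
    · rw [Ideal.smul_top_eq_map, Algebra.algebraMap_self, Ideal.map_id]
      rfl
  have h5 : (p ^ e) ^ (d + 1) ≤ C * (p ^ e) ^ d := (Nat.pow_le_pow_right hq hlt).trans (h4.trans h1)
  rw [pow_succ'] at h5
  exact absurd (Nat.le_of_mul_le_mul_right h5 (by positivity)) (not_le.2 he)

theorem flat_of_isRegularLocalRing [IsRegularLocalRing R] (p : ℕ) [Fact p.Prime] [CharP R p] :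
    (frobenius R p).Flat := by
  haveI : ExpChar R p := ExpChar.prime Fact.out
  rw [← iterateFrobenius_one]
  haveI : IsRegularLocalRing (Fr R p 1) := inferInstanceAs (IsRegularLocalRing R)
  haveI : LocCoh.IsCohenMacaulayLocalRing (Fr R p 1) := S10881.cm_of_regular _
  refine CMFlatLib.flat_of_cm R (Fr R p 1) (le_antisymm ?_ fun y hy => ⟨p, ?_⟩) rfl
  · refine ((maximalIdeal.isMaximal (Fr R p 1)).isPrime.radical_le_iff).2 (Ideal.map_le_iff_le_comap.2 fun y hy => ?_)
    show iterateFrobenius R p 1 y ∈ maximalIdeal R
    rw [iterateFrobenius_one, frobenius_def]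
    exact Ideal.pow_mem_of_mem _ hy _ (Nat.Prime.pos Fact.out)
  · have : y ^ p = algebraMap R (Fr R p 1) (show R from y) := by
      show (show R from y) ^ p = iterateFrobenius R p 1 y
      rw [iterateFrobenius_one, frobenius_def]
    rw [this]
    exact Ideal.mem_map_of_mem _ hy

theorem charP_localization (p : ℕ) [Fact p.Prime] [CharP R p] (q : Ideal R) [q.IsPrime] :
    CharP (Localization.AtPrime q) p :=
  (CharP.charP_iff_prime_eq_zero Fact.out).2
    (by rw [← map_natCast (algebraMap R (Localization.AtPrime q)), CharP.cast_eq_zero, map_zero])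

theorem isRegularRing_iff_flat (p : ℕ) [Fact p.Prime] [IsNoetherianRing R] [CharP R p] :
    IsRegularRing R ↔ (frobenius R p).Flat := by
  haveI : ExpChar R p := ExpChar.prime Fact.out
  constructor
  · intro hreg
    rw [← iterateFrobenius_one]
    show Module.Flat R (Fr R p 1)
    refine Module.flat_of_isLocalized_maximal (Fr R p 1) (Fr R p 1)
      (fun P => Localization.AtPrime P) (fun P => Algebra.linearMap (Fr R p 1) (Localization.AtPrime P))
      fun P hP => ?_
    let q : Ideal R := P
    haveI : q.IsPrime := hP.isPrime
    haveI := charP_localization p q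
    haveI : ExpChar (Localization.AtPrime q) p := ExpChar.prime Fact.out
    have h1 : ((frobenius (Localization.AtPrime q) p).comp (algebraMap R (Localization.AtPrime q))).Flat :=
      RingHom.Flat.comp (RingHom.flat_algebraMap_iff.2 (IsLocalization.flat (Localization.AtPrime q) q.primeCompl))
        (flat_of_isRegularLocalRing p)
    have h2 : algebraMap R (Localization.AtPrime P) =
        (frobenius (Localization.AtPrime q) p).comp (algebraMap R (Localization.AtPrime q)) := RingHom.ext fun r => by
      show algebraMap R (Localization.AtPrime q) (iterateFrobenius R p 1 r) = _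
      rw [iterateFrobenius_one]
      simp [frobenius_def]
      rfl
    rw [← h2] at h1
    exact RingHom.flat_algebraMap_iff.1 h1
  · intro h
    refine isRegularRing_iff.2 fun q _ => ?_
    haveI := charP_localization p q
    haveI : ExpChar (Localization.AtPrime q) p := ExpChar.prime Fact.out
    refine isRegularLocalRing_of_flat p ?_
    have hl : (algebraMap R (Localization.AtPrime q)).Flat :=
      RingHom.flat_algebraMap_iff.2 (IsLocalization.flat (Localization.AtPrime q) q.primeCompl)
    rw [← iterateFrobenius_one]
    show Module.Flat (Localization.AtPrime q) (Fr (Localization.AtPrime q) p 1)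
    letI : Algebra R (Fr (Localization.AtPrime q) p 1) :=
      ((algebraMap (Localization.AtPrime q) (Fr (Localization.AtPrime q) p 1)).comp
        (algebraMap R (Localization.AtPrime q))).toAlgebra
    haveI : IsScalarTower R (Localization.AtPrime q) (Fr (Localization.AtPrime q) p 1) :=
      IsScalarTower.of_algebraMap_eq fun _ => rfl
    refine (Module.flat_iff_of_isLocalization (Localization.AtPrime q) q.primeCompl
      (Fr (Localization.AtPrime q) p 1)).2 (RingHom.flat_algebraMap_iff.1 ?_)
    rw [show algebraMap R (Fr (Localization.AtPrime q) p 1) =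
      ((algebraMap R (Localization.AtPrime q)).comp (frobenius R p) : R →+* Localization.AtPrime q) from
      RingHom.ext fun r => by
        show iterateFrobenius (Localization.AtPrime q) p 1 (algebraMap R _ r) = _
        rw [iterateFrobenius_one]
        exact ((algebraMap R (Localization.AtPrime q)).map_frobenius p r).symm]
    exact RingHom.Flat.comp h hl

end Groth.Agent.KunzLib
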